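import Cfsg.Agent.H249.Co3.Uniq

/-!
# S1920, case B, `E₇(q)`, THETA12: abstract assembly (helper249)

`RD z Rel` : the relation `Rel g a M` (matrices), `Gn Rel T X` : generation of the centraliser of `z`.
`omT`, `omS`, `ex` : the fields of `E7I`.
-/

set_option autoImplicit false
set_option linter.unusedSectionVars false

open QuadraticMap Module
open Cfsg.Agent.LieClassical.OrthCore Cfsg.Agent.LieClassical.OrthTrans Cfsg.Agent.LieClassical.OrthForms
  Cfsg.Agent.ClassicalGeometry.OrthAutBasic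
  Cfsg.Agent.LieClassical.OrthFinite Cfsg.Agent.H887.SiegelMethod

namespace Cfsg.Agent.H249.Co3

/-- 12 × 12 matrices -/
abbrev M12 (F : Type*) : Type _ := Matrix (Fin 6 ⊕ Fin 6) (Fin 6 ⊕ Fin 6) F

/-- `Ω₁₂⁺(F)` as matrices -/
def OmM (F : Type*) [Field F] : Set (M12 F) := {M | ∃ g ∈ E (plusForm 6 F), ∀ v, M.mulVec v = g v}

section OmM

variable {F : Type*} [Field F]

theorem omM_one : (1 : M12 F) ∈ OmM F := ⟨1, (E _).one_mem, fun v => by rw [Matrix.one_mulVec]; rfl⟩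

theorem omM_mul {M N : M12 F} (hM : M ∈ OmM F) (hN : N ∈ OmM F) : M * N ∈ OmM F := by
  obtain ⟨g, hg, h1⟩ := hM
  obtain ⟨h, hh, h2⟩ := hN
  exact ⟨g * h, (E _).mul_mem hg hh, fun v => by rw [← Matrix.mulVec_mulVec, h2, h1]; rfl⟩

theorem omM_inv {M : M12 F} (hM : M ∈ OmM F) : ∃ N ∈ OmM F, M * N = 1 ∧ N * M = 1 := by
  obtain ⟨g, hg, h1⟩ := hM
  refine ⟨LinearMap.toMatrix' (g⁻¹ : (Fin 6 ⊕ Fin 6 → F) ≃ₗ[F] (Fin 6 ⊕ Fin 6 → F)).toLinearMap, ⟨g⁻¹, (E _).inv_mem hg, fun v => ?_⟩, ?_, ?_⟩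
  · rw [← Matrix.toLin'_apply, Matrix.toLin'_toMatrix']; rfl
  · apply Matrix.mulVec_injective
    funext v
    show (M * _).mulVec v = (1 : M12 F).mulVec v
    rw [← Matrix.mulVec_mulVec, ← Matrix.toLin'_apply (LinearMap.toMatrix' _), Matrix.toLin'_toMatrix', h1, Matrix.one_mulVec]
    exact g.apply_symm_apply v
  · apply Matrix.mulVec_injective
    funext v
    show (_ * M).mulVec v = (1 : M12 F).mulVec v
    rw [← Matrix.mulVec_mulVec, ← Matrix.toLin'_apply (LinearMap.toMatrix' _), Matrix.toLin'_toMatrix', h1, Matrix.one_mulVec]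
    exact g.symm_apply_apply v

theorem mem_OmM_iff {M : Module.End F (VV F)} : LinearMap.toMatrix' M ∈ OmM F ↔ M ∈ Om F := by
  constructor
  · rintro ⟨g, hg, h⟩
    refine ⟨g, hg, LinearMap.ext fun v => ?_⟩
    rw [LinearEquiv.coe_coe, ← h v, ← Matrix.toLin'_apply, Matrix.toLin'_toMatrix']
  · rintro ⟨g, hg, rfl⟩
    exact ⟨g, hg, fun v => by rw [← Matrix.toLin'_apply, Matrix.toLin'_toMatrix']; rfl⟩

/-- the root matrices are in `Ω` -/
theorem rt_mem_OmM {k l : Fin 6 ⊕ Fin 6} (h1 : l ≠ k) (h2 : l ≠ k.swap) (t : F) : rt k l t ∈ OmM F :=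
  ⟨_, T_mem_E _ _, fun v => (T_eq_rt h1 t v).symm⟩

/-- `Ω` is normalised by the similitudes -/
theorem omM_conj {M N S S' : M12 F} {μ : F} (hμ : μ ≠ 0) (hS : ∀ v, plusForm 6 F (S.mulVec v) = μ * plusForm 6 F v)
    (h1 : S * S' = 1) (h2 : S' * S = 1) (hN : N ∈ OmM F) (hM : M = S * N * S') : M ∈ OmM F := by
  obtain ⟨g, hg, h⟩ := hN
  let s : VV F ≃ₗ[F] VV F := LinearEquiv.ofLinearMap (Matrix.mulVecLin S) (Matrix.mulVecLin S')
    (by rw [← Matrix.mulVecLin_mul, h1, Matrix.mulVecLin_one]) (by rw [← Matrix.mulVecLin_mul, h2, Matrix.mulVecLin_one])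
  have hs : ∀ v, s v = S.mulVec v := fun _ => rfl
  have hs' : ∀ v, s⁻¹ v = S'.mulVec v := fun _ => rfl
  refine ⟨s * g * s⁻¹, E_conj_sim hμ (fun v => by rw [hs]; exact hS v) hg, fun v => ?_⟩
  rw [hM, ← Matrix.mulVec_mulVec, ← Matrix.mulVec_mulVec, h, ← hs', ← hs]; rfl

end OmM

/-- **the relation** -/
structure RD {G : Type*} [Group G] (z : G) {F : Type*} [Field F] (Rel : G → Matrix (Fin 2) (Fin 2) F → M12 F → Prop) : Prop where
  two : (2 : F) ≠ 0
  cz : ∀ {g a M}, Rel g a M → g * z = z * g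
  det : ∀ {g a M}, Rel g a M → a.det ≠ 0
  sim : ∀ {g a M}, Rel g a M → ∃ μ : F, μ ≠ 0 ∧ (∀ v, plusForm 6 F (M.mulVec v) = μ * plusForm 6 F v) ∧
    (IsSquare μ ↔ IsSquare a.det)
  one : Rel 1 1 1
  mul : ∀ {g a M g' a' M'}, Rel g a M → Rel g' a' M' → Rel (g * g') (a * a') (M * M')
  inv : ∀ {g a M}, Rel g a M → ∃ a' M', Rel g⁻¹ a' M' ∧ a * a' = 1 ∧ M * M' = 1
  scal : ∀ {g a M} {c d : F}, Rel g a M → c ≠ 0 → d ≠ 0 → Rel g (c • a) (d • M)
  uniq1 : ∀ {a M}, Rel 1 a M → (∃ c : F, a = c • 1) ∧ ∃ c : F, M = c • 1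
  ker : ∀ {g}, Rel g 1 1 → g = 1 ∨ g = z

/-- **generation** -/
structure Gn {G : Type*} [Group G] (z : G) {F : Type*} [Field F] (Rel : G → Matrix (Fin 2) (Fin 2) F → M12 F → Prop)
    (TT XX : Set G) : Prop where
  gen : ∀ g, g * z = z * g → g ∈ Subgroup.closure (TT ∪ XX)
  hX : ∀ g ∈ XX, ∃ x : Matrix.SpecialLinearGroup (Fin 2) F, ∃ N ∈ OmM F, Rel g x N
  hT : ∀ g ∈ TT, ∃ a M, Rel g a M
  Tone : (1 : G) ∈ TT
  Tmul : ∀ g ∈ TT, ∀ h ∈ TT, g * h ∈ TT
  Tinv : ∀ g ∈ TT, g⁻¹ ∈ TT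
  hsq : ∀ g ∈ TT, ∀ a M, Rel g a M → IsSquare a.det → ∃ c : F, c ≠ 0 ∧ c • M ∈ OmM F
  hom : ∀ k l : Fin 6 ⊕ Fin 6, l ≠ k → l ≠ k.swap → ∀ t : F, ∃ g, Rel g 1 (rt k l t)

section

variable {G : Type*} [Group G] {z : G} {F : Type*} [Field F] {Rel : G → Matrix (Fin 2) (Fin 2) F → M12 F → Prop}
  {TT XX : Set G}

theorem RD.M_ne (R : RD z Rel) {g : G} {a M} (h : Rel g a M) : M ≠ 0 := by
  rintro rfl
  obtain ⟨a', M', -, -, h1⟩ := R.inv h
  rw [zero_mul] at h1
  have h2 := congrFun (congrFun h1 (Sum.inl 0)) (Sum.inl 0)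
  rw [Matrix.one_apply_eq] at h2
  exact zero_ne_one h2

theorem RD.a_ne (R : RD z Rel) {g : G} {a M} (h : Rel g a M) : a ≠ 0 := by
  rintro rfl
  apply R.det h
  rw [Matrix.det_fin_two]; simp

/-- uniqueness up to scalars -/
theorem RD.uniq (R : RD z Rel) {g : G} {a M a' M'} (h : Rel g a M) (h' : Rel g a' M') :
    (∃ c : F, c ≠ 0 ∧ a' = c • a) ∧ ∃ c : F, c ≠ 0 ∧ M' = c • M := by
  obtain ⟨b, N, h1, h2, h3⟩ := R.inv h
  have h4 := R.mul h1 h'
  rw [inv_mul_cancel] at h4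
  obtain ⟨⟨c, hc⟩, d, hd⟩ := R.uniq1 h4
  have e1 : a' = c • a := by
    have : a * (b * a') = a * (c • 1) := by rw [hc]
    rwa [← mul_assoc, h2, one_mul, mul_smul_comm, mul_one] at this
  have e2 : M' = d • M := by
    have : M * (N * M') = M * (d • 1) := by rw [hd]
    rwa [← mul_assoc, h3, one_mul, mul_smul_comm, mul_one] at this
  refine ⟨⟨c, ?_, e1⟩, d, ?_, e2⟩
  · rintro rfl
    exact R.a_ne h' (by rw [e1, zero_smul])
  · rintro rfl
    exact R.M_ne h' (by rw [e2, zero_smul])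

theorem mul_inv_of {n : Type*} [Fintype n] [DecidableEq n] {A B : Matrix n n F} (h : A * B = 1) : B * A = 1 :=
  mul_eq_one_comm.1 h

/-- **the form of the elements of the centraliser** -/
theorem form (R : RD z Rel) (H : Gn z Rel TT XX) {g : G} (hg : g * z = z * g) :
    ∃ t ∈ TT, ∃ a M, Rel t a M ∧ ∃ x : Matrix.SpecialLinearGroup (Fin 2) F, ∃ N ∈ OmM F, Rel g ((x : Matrix _ _ F) * a) (N * M) := by
  have key := H.gen g hg
  clear hg
  induction key using Subgroup.closure_induction with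
  | mem g hg =>
    rcases hg with hg | hg
    · obtain ⟨a, M, h⟩ := H.hT g hg
      exact ⟨g, hg, a, M, h, 1, 1, omM_one, by rwa [Matrix.SpecialLinearGroup.coe_one, one_mul, one_mul]⟩
    · obtain ⟨x, N, hN, h⟩ := H.hX g hg
      exact ⟨1, H.Tone, 1, 1, R.one, x, N, hN, by rwa [mul_one, mul_one]⟩
  | one => exact ⟨1, H.Tone, 1, 1, R.one, 1, 1, omM_one, by
      rw [Matrix.SpecialLinearGroup.coe_one, one_mul, one_mul]; exact R.one⟩
  | mul g g' _ _ ih ih' =>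
    obtain ⟨t, ht, a, M, h1, x, N, hN, h2⟩ := ih
    obtain ⟨t', ht', a', M', h1', x', N', hN', h2'⟩ := ih'
    obtain ⟨b, L, h3, h4, h5⟩ := R.inv h1
    obtain ⟨μ, hμ, hs, -⟩ := R.sim h1
    have e1 : (a * (x' : Matrix (Fin 2) (Fin 2) F) * b).det = 1 := by
      rw [Matrix.det_mul, Matrix.det_mul, mul_comm a.det, mul_assoc, ← Matrix.det_mul, h4, Matrix.det_one, mul_one]
      exact x'.2
    refine ⟨t * t', H.Tmul t ht t' ht', a * a', M * M', R.mul h1 h1', x * ⟨a * x' * b, e1⟩, N * (M * N' * L),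
      omM_mul hN (omM_conj hμ hs h5 (mul_inv_of h5) hN' rfl), ?_⟩
    have e2 : ((x * ⟨a * x' * b, e1⟩ : Matrix.SpecialLinearGroup (Fin 2) F) : Matrix (Fin 2) (Fin 2) F) * (a * a') =
        ((x : Matrix (Fin 2) (Fin 2) F) * a) * ((x' : Matrix (Fin 2) (Fin 2) F) * a') := by
      show (x : Matrix (Fin 2) (Fin 2) F) * (a * x' * b) * (a * a') = _
      calc (x : Matrix (Fin 2) (Fin 2) F) * (a * x' * b) * (a * a') = (x : Matrix (Fin 2) (Fin 2) F) * a * x' * (b * a) * a' := by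
            noncomm_ring
        _ = _ := by rw [mul_inv_of h4, mul_one]; noncomm_ring
    have e3 : N * (M * N' * L) * (M * M') = N * M * (N' * M') := by
      calc N * (M * N' * L) * (M * M') = N * M * N' * (L * M) * M' := by noncomm_ring
        _ = _ := by rw [mul_inv_of h5, mul_one]; noncomm_ring
    rw [e2, e3]
    exact R.mul h2 h2'
  | inv g _ ih =>
    obtain ⟨t, ht, a, M, h1, x, N, hN, h2⟩ := ih
    obtain ⟨b, L, h3, h4, h5⟩ := R.inv h1
    obtain ⟨μ, hμ, hs, -⟩ := R.sim h3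
    obtain ⟨b', L', h6, h7, h8⟩ := R.inv h2
    obtain ⟨N', hN', h9, h10⟩ := omM_inv hN
    have e1 : (b * ((x⁻¹ : Matrix.SpecialLinearGroup (Fin 2) F) : Matrix (Fin 2) (Fin 2) F) * a).det = 1 := by
      rw [Matrix.det_mul, Matrix.det_mul, mul_right_comm, ← Matrix.det_mul, mul_inv_of h4, Matrix.det_one, one_mul]
      exact (x⁻¹).2
    refine ⟨t⁻¹, H.Tinv t ht, b, L, h3, ⟨b * ((x⁻¹ : Matrix.SpecialLinearGroup (Fin 2) F) : Matrix (Fin 2) (Fin 2) F) * a, e1⟩, L * N' * M,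
      omM_conj hμ hs (mul_inv_of h5) h5 hN' rfl, ?_⟩
    have e2 : (b * ((x⁻¹ : Matrix.SpecialLinearGroup (Fin 2) F) : Matrix (Fin 2) (Fin 2) F) * a) * b = b' := by
      have h11 : b * ((x⁻¹ : Matrix.SpecialLinearGroup (Fin 2) F) : Matrix (Fin 2) (Fin 2) F) * a * b =
          b * ((x⁻¹ : Matrix.SpecialLinearGroup (Fin 2) F) : Matrix (Fin 2) (Fin 2) F) := by
        rw [mul_assoc, h4, mul_one]
      rw [h11]
      refine left_inv_eq_right_inv (a := (x : Matrix (Fin 2) (Fin 2) F) * a) ?_ h7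
      calc b * ((x⁻¹ : Matrix.SpecialLinearGroup (Fin 2) F) : Matrix (Fin 2) (Fin 2) F) * ((x : Matrix (Fin 2) (Fin 2) F) * a)
          = b * (((x⁻¹ : Matrix.SpecialLinearGroup (Fin 2) F) : Matrix (Fin 2) (Fin 2) F) * (x : Matrix (Fin 2) (Fin 2) F)) * a := by
            noncomm_ring
        _ = 1 := by
            rw [← Matrix.SpecialLinearGroup.coe_mul, inv_mul_cancel, Matrix.SpecialLinearGroup.coe_one, mul_one,
              mul_inv_of h4]
    have e3 : L * N' * M * L = L' := by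
      rw [mul_assoc, h5, mul_one]
      refine left_inv_eq_right_inv (a := N * M) ?_ h8
      calc L * N' * (N * M) = L * (N' * N) * M := by noncomm_ring
        _ = 1 := by rw [h10, mul_one, mul_inv_of h5]
    show Rel g⁻¹ ((b * ((x⁻¹ : Matrix.SpecialLinearGroup (Fin 2) F) : Matrix (Fin 2) (Fin 2) F) * a) * b) (L * N' * M * L)
    rw [e2, e3]
    exact h6

/-- **`ex`** -/
theorem ex (R : RD z Rel) (H : Gn z Rel TT XX) {g : G} (hg : g * z = z * g) : ∃ a M, Rel g a M := by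
  obtain ⟨_, _, _, _, _, _, _, _, h⟩ := form R H hg
  exact ⟨_, _, h⟩

/-- **`omT`** -/
theorem omT (R : RD z Rel) (H : Gn z Rel TT XX) {g : G} {M : M12 F} (hg : Rel g 1 M) : ∃ c : F, c ≠ 0 ∧ c • M ∈ OmM F := by
  obtain ⟨t, ht, a, L, h1, x, N, hN, h2⟩ := form R H (R.cz hg)
  obtain ⟨⟨c, hc, e1⟩, d, hd, e2⟩ := R.uniq hg h2
  have h3 : a.det = c * c := by
    have h4 := congrArg Matrix.det e1
    rw [Matrix.det_mul, Matrix.det_smul, Matrix.det_one, mul_one, Fintype.card_fin] at h4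
    have h5 : ((x : Matrix (Fin 2) (Fin 2) F)).det = 1 := x.2
    rw [h5, one_mul] at h4
    rw [h4]; ring
  obtain ⟨e, he, h4⟩ := H.hsq t ht a L h1 ⟨c, h3⟩
  refine ⟨e * d, mul_ne_zero he hd, ?_⟩
  rw [mul_smul, ← e2, ← mul_smul_comm]
  exact omM_mul hN h4

/-- **`omS`** -/
theorem omS [Finite F] (R : RD z Rel) (H : Gn z Rel TT XX) {M : M12 F} (hM : M ∈ OmM F) : ∃ g, Rel g 1 M := by
  obtain ⟨w, hw, h⟩ := hM
  -- the subgroup of the represented isometries
  let K : Subgroup (VV F ≃ₗ[F] VV F) :=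
    { carrier := {w | ∃ g, Rel g 1 (LinearMap.toMatrix' w.toLinearMap)}
      one_mem' := ⟨1, by
        have : LinearMap.toMatrix' (1 : VV F ≃ₗ[F] VV F).toLinearMap = (1 : M12 F) := LinearMap.toMatrix'_id
        rw [this]; exact R.one⟩
      mul_mem' := by
        rintro v w ⟨g, h1⟩ ⟨g', h2⟩
        refine ⟨g * g', ?_⟩
        have : LinearMap.toMatrix' (v * w : VV F ≃ₗ[F] VV F).toLinearMap =
            LinearMap.toMatrix' v.toLinearMap * LinearMap.toMatrix' w.toLinearMap := LinearMap.toMatrix'_comp _ _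
        rw [this]
        have h3 := R.mul h1 h2
        rwa [one_mul] at h3
      inv_mem' := by
        rintro v ⟨g, h1⟩
        obtain ⟨a', M', h2, h3, h4⟩ := R.inv h1
        refine ⟨g⁻¹, ?_⟩
        rw [one_mul] at h3
        subst h3
        have h5 : LinearMap.toMatrix' v.toLinearMap * LinearMap.toMatrix' (v⁻¹ : VV F ≃ₗ[F] VV F).toLinearMap = 1 := by
          rw [← LinearMap.toMatrix'_comp, ← LinearMap.toMatrix'_id]
          congr 1
          exact LinearMap.ext fun y => v.apply_symm_apply y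
        have h6 : M' = LinearMap.toMatrix' (v⁻¹ : VV F ≃ₗ[F] VV F).toLinearMap :=
          left_inv_eq_right_inv (mul_inv_of h4) h5
        rw [← h6]; exact h2 }
  have hK : E (plusForm 6 F) ≤ K := by
    refine gen_le (by norm_num) K fun a b h1 h2 t => ?_
    obtain ⟨g, hg⟩ := H.hom a.swap b h2 (by rwa [Sum.swap_swap]) t
    refine ⟨g, ?_⟩
    have : LinearMap.toMatrix' (T (plusForm 6 F) (ee F a) (t • ee F b)).toLinearMap = rt a.swap b t := by
      apply Matrix.mulVec_injective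
      funext v
      show (LinearMap.toMatrix' (T (plusForm 6 F) (ee F a) (t • ee F b)).toLinearMap).mulVec v = (rt a.swap b t).mulVec v
      rw [← Matrix.toLin'_apply, Matrix.toLin'_toMatrix', ← T_eq_rt h2, Sum.swap_swap]; rfl
    rw [this]; exact hg
  obtain ⟨g, hg⟩ := hK hw
  refine ⟨g, ?_⟩
  have : LinearMap.toMatrix' w.toLinearMap = M := by
    apply Matrix.mulVec_injective
    funext v
    show (LinearMap.toMatrix' w.toLinearMap).mulVec v = M.mulVec v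
    rw [← Matrix.toLin'_apply, Matrix.toLin'_toMatrix', h]; rfl
  rwa [← this]

open Cfsg.Agent.H627.Co3 in
/-- the relation in terms of endomorphisms -/
def RE (Rel : G → Matrix (Fin 2) (Fin 2) F → M12 F → Prop) (g : G) (a : Matrix (Fin 2) (Fin 2) F)
    (M : Module.End F (VV F)) : Prop := Rel g a (LinearMap.toMatrix' M)

theorem RE_one {Rel : G → Matrix (Fin 2) (Fin 2) F → M12 F → Prop} {g : G} {a : Matrix (Fin 2) (Fin 2) F} :
    RE Rel g a 1 ↔ Rel g a 1 := by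
  have : LinearMap.toMatrix' (1 : Module.End F (VV F)) = (1 : M12 F) := LinearMap.toMatrix'_id
  unfold RE
  rw [this]

theorem exists_end (M : M12 F) : ∃ N : Module.End F (VV F), LinearMap.toMatrix' N = M :=
  ⟨Matrix.toLin' M, LinearMap.toMatrix'_toLin' M⟩

/-- **the interface** `E7I`, from the relation, the generation, the subgroup `SL₂(F)` and the tables -/
def e7i [Finite F] (R : RD z Rel) (H : Gn z Rel TT XX) (ι : Matrix.SpecialLinearGroup (Fin 2) F →* G)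
    (hι : ∀ x, Rel (ι x) x 1) (hz : ι (-1) = z)
    (t1 : ∀ {n M}, RE Rel n 1 M → n * n = 1 → (∃ k, k * n * k⁻¹ = n * z) → ∃ ν : F, ν ≠ 0 ∧ M * M = ν ^ 2 • 1 ∧
      Cfsg.Agent.H627.Co3.Sym (BB F) M ∧
      (finrank F (LinearMap.ker (M + ν • 1)) = 4 ∨ finrank F (LinearMap.ker (M + ν • 1)) = 8))
    (t2 : ∀ {n M} {ν : F}, RE Rel n 1 M → n * n = z → M * M = ν ^ 2 • 1 → Cfsg.Agent.H627.Co3.Sym (BB F) M →
      finrank F (LinearMap.ker (M + ν • 1)) ≠ 4 ∧ finrank F (LinearMap.ker (M + ν • 1)) ≠ 8)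
    (t3 : ∀ {n a M} {l : F}, RE Rel n a M → n * n = z → (¬ ∃ c : F, a = c • 1) → M * M = l • 1 →
      Cfsg.Agent.H627.Co3.Sym (BB F) M → IsSquare l) :
    Cfsg.Agent.H627.Co3.E7I z F (BB F) where
  R := RE Rel
  ι := ι
  Om := Om F
  two := R.two
  dim := finrank_VV
  symm := BB_symm
  nd := BB_nd
  ex g hg := by
    obtain ⟨a, M, h⟩ := ex R H hg
    obtain ⟨N, rfl⟩ := exists_end M
    exact ⟨a, N, h⟩
  cz := R.cz
  det := R.det
  sim := by
    intro g a M h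
    obtain ⟨μ, h1, h3, h4⟩ := R.sim h
    refine ⟨μ, h1, fun u v => ?_, h4⟩
    have h5 : ∀ v, plusForm 6 F (M v) = μ * plusForm 6 F v := fun v => by
      rw [← h3, ← Matrix.toLin'_apply, Matrix.toLin'_toMatrix']
    rw [BB_apply, BB_apply]
    unfold QuadraticMap.polar
    rw [← map_add, h5, h5, h5]; ring
  mul := by
    intro g a M g' a' M' h h'
    have h1 := R.mul h h'
    have : LinearMap.toMatrix' (M * M') = LinearMap.toMatrix' M * LinearMap.toMatrix' M' := LinearMap.toMatrix'_comp _ _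
    unfold RE
    rw [this]; exact h1
  uniq := by
    intro g a M a' M' h h'
    obtain ⟨⟨c, -, h1⟩, d, -, h3⟩ := R.uniq h h'
    refine ⟨⟨c, h1⟩, d, ?_⟩
    apply (LinearMap.toMatrix' (R := F) (m := Fin 6 ⊕ Fin 6) (n := Fin 6 ⊕ Fin 6)).injective
    rw [map_smul]; exact h3
  scal := by
    intro g a M c d h hc hd
    unfold RE
    rw [map_smul]
    exact R.scal h hc hd
  ker := by
    intro g h
    exact R.ker (RE_one.1 h)
  Rι x := RE_one.2 (hι x)
  ι_neg := hz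
  omT := by
    intro g M h
    obtain ⟨c, hc, h1⟩ := omT R H h
    refine ⟨c, hc, mem_OmM_iff.1 ?_⟩
    rw [map_smul]; exact h1
  omS := by
    intro M hM
    obtain ⟨g, hg⟩ := omS R H (mem_OmM_iff.2 hM)
    exact ⟨g, hg⟩
  om_iso := fun hM => om_iso hM
  signs v hv J := signs R.two v hv J
  t1 := t1
  t2 := t2
  t3 := t3

end

end Cfsg.Agent.H249.Co3
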