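import Cfsg.Agent.H249.Co3.Tr7
import Cfsg.Agent.H249.Co3.Io7
import Cfsg.Agent.H167.Co3.HR7
import Cfsg.Agent.H169.Co3.RowE7

/-!
# S1920, case B, `E₇(q)`: the interface `E7I` at `z = h_β(-1)` and the row `E₇` (helper249)

* `e7int` : `E7I (zz F) F (BB F)`;
* `row_e7` : the row `E₇`.
-/

set_option autoImplicit false

namespace Cfsg.Agent.H249.Co3

open Cfsg.Lie
open Cfsg.Agent.H627.Co3 (E7I)
open Cfsg.Agent.H167.Co3 (tt1 tt2 tt3)

universe u

theorem card_odd {F : Type} [Field F] [Fintype F] (h2 : (2 : F) ≠ 0) : Odd (Fintype.card F) := by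
  obtain ⟨p, hpc⟩ := CharP.exists F
  have hpp : Fact p.Prime := ⟨CharP.char_is_prime F p⟩
  obtain ⟨n, hn, e⟩ := FiniteField.card F p
  rw [e]
  refine (hpp.out.odd_of_ne_two ?_).pow
  rintro rfl
  exact h2 (CharTwo.two_eq_zero)

/-- **the interface** -/
theorem e7int {F : Type} [Field F] [Finite F] (h2 : (2 : F) ≠ 0) : Nonempty (E7I (zz F) F (BB F)) := by
  have := Fintype.ofFinite F
  have ho : Odd (Fintype.card F) := card_odd h2
  have ho' : Odd (Nat.card F) := by rw [Nat.card_eq_fintype_card]; exact ho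
  have hZ := z7_mat (F := F) h2
  have hT := z7_mem F
  have R := rd7 h2 hZ
  have H := gn7 h2 hZ hT (gen7 ho') (fun hc ht htz => tor7 hc ht htz)
  have hex : ∀ g, g * zz F = zz F * g → ∃ a M, Rl7 (zz F) g a M := fun g hg => ex R H hg
  have hι := io_rel (F := F) h2 hZ hT
  have hz := io_neg (F := F) h2 hZ hT
  exact ⟨e7i R H (io F) hι hz (tt1 ho hZ R hex (io F) hι hz) (tt2 ho hZ R hex (io F) hι hz)
    (tt3 ho hZ R hex (io F) hι hz)⟩

/-- **the row `E₇`** -/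
theorem row_e7 : Cfsg.Agent.H527.Co3.Row.{u} @Lie.IsoE7 :=
  Cfsg.Agent.H169.Co3.e7_of_int fun F _ _ h2 => ⟨_, _, _, BB F, e7int h2⟩

end Cfsg.Agent.H249.Co3
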