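import Cfsg.Agent.H249.Co3.RelRD
import Cfsg.Agent.Nodes.KindE

/-!
# S1920, case B, `E₇(q)`, THETA12: root elements, generation (helper249)

* `rl_root` : the root elements of `A₁D₆`; `hX7` : they are in `SL₂ × Ω₁₂`; `hom7` : `Ω₁₂` is reached;
* `gn7` : `Gn z (Rl7 z) TT XX` (the torus elements `tor`, the generation of the centraliser `gen` as hypotheses).
-/

set_option autoImplicit false
set_option linter.unusedSectionVars false
set_option maxRecDepth 100000

open QuadraticMap Module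
open Cfsg.Agent.LieClassical.OrthCore Cfsg.Agent.LieClassical.OrthTrans Cfsg.Agent.LieClassical.OrthForms
  Cfsg.Agent.ClassicalGeometry.OrthAutBasic
  Cfsg.Agent.LieClassical.OrthFinite Cfsg.Agent.H887.SiegelMethod

namespace Cfsg.Agent.H249.Co3

open Cfsg Cfsg.Lie Cfsg.Lie.ChevalleyDatum
open Cfsg.Agent.ChevalleyStructure Cfsg.Agent.ChevalleyStructure.Elts Cfsg.Agent.ChevalleyStructure.XColumns
open Cfsg.Agent.ChevalleyStructure.Columns (cor)
open Cfsg.Agent.H736.Co3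
open Matrix

universe u

section

variable {F : Type u} [Field F]

theorem E6_sq {r : ℕ} (hr : T6.In r = true) : E6 F r * E6 F r = 0 := T6_ok.EE hr

theorem E2_sq {r : ℕ} (hr : T6.In r = true) : E2 F r * E2 F r = 0 := by
  have h : sm T2.m F (T2.E r) * sm T2.m F (T2.E r) = 0 := T2_ok.EE (r := r) hr
  have h1 := congrArg (rx F) h
  exact (map_mul (rx F) _ _).symm.trans (h1.trans (map_zero (rx F)))

theorem det_one_E2 {r : ℕ} (a : F) : (1 + a • E2 F r).det = 1 := by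
  by_cases h1 : r = 125
  · subst h1
    rw [E2_125, Matrix.det_fin_two]
    simp
  · by_cases h0 : r = 0
    · subst h0
      rw [E2_0, Matrix.det_fin_two]
      simp
    · rw [E2_else h1 h0, smul_zero, add_zero, Matrix.det_one]

theorem cancel {n : Type*} [Fintype n] [DecidableEq n] {E : Matrix n n F} (hE : E * E = 0) (a : F) (X : Matrix n n F) :
    (1 + a • E) * X * (1 - a • E) * (1 + a • E) = (1 + a • E) * X := by
  have h1 : (1 - a • E) * (1 + a • E) = 1 := by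
    rw [sub_mul, mul_add, mul_add, one_mul, mul_one, one_mul, smul_mul_smul_comm, hE, smul_zero]
    abel
  rw [mul_assoc _ (1 - a • E), h1, mul_one]

/-- **the root elements** -/
theorem rl_root (h2 : (2 : F) ≠ 0) {z g : ↥(chevE7.group F)} {r : ℕ} {a : F} (hr : r < 126) (he : cor chevE7 r 0 % 2 = 0)
    (hg : (g : GL chevE7.Idx F) = xG inE7 r a) (hgz : g * z = z * g) : Rl7 z g (1 + a • E2 F r) (1 + a • E6 F r) where
  cz := hgz
  det := by rw [det_one_E2]; exact one_ne_zero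
  sim := ⟨1, one_ne_zero, fun v => by
    rw [one_mul]
    exact tv_iso h2 (E6_sq ((In_iff hr).2 he)) (T6_ok2.stE T6_ok ((In_iff hr).2 he)) a v, by
    rw [det_one_E2]
    exact ⟨1, rfl⟩⟩
  d2 v hv := by
    rw [hg, coe_xG]
    have h1 := (T2_ok.root (r := r) ((In_iff hr).2 he) a (v := v) hv).2
    have h3 : th2 F (chevE7.x F r a *ᵥ v) = (1 + a • E2 F r) * th2 F v * (1 - a • E2 F r) := by
      have h4 := congrArg (rx F) h1
      refine (show th2 F (chevE7.x F r a *ᵥ v) = _ from h4).trans ?_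
      refine (map_mul (rx F) _ _).trans ?_
      congr 1
      · refine (map_mul (rx F) _ _).trans ?_
        congr 1
        refine (map_add (rx F) _ _).trans ?_
        exact congrArg₂ (fun x y => x + y) (map_one (rx F)) (map_smul (rx F) a _)
      · refine (map_sub (rx F) _ _).trans ?_
        exact congrArg₂ (fun x y => x - y) (map_one (rx F)) (map_smul (rx F) a _)
    rw [h3]
    exact cancel (E2_sq ((In_iff hr).2 he)) a _
  d6 v hv := by
    rw [hg, coe_xG]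
    have h1 := (T6_ok.root (r := r) ((In_iff hr).2 he) a (v := v) hv).2
    have h3 : th6 F (chevE7.x F r a *ᵥ v) = (1 + a • E6 F r) * th6 F v * (1 - a • E6 F r) := h1
    rw [h3]
    exact cancel (E6_sq ((In_iff hr).2 he)) a _

theorem E6_mem {r : ℕ} (hr : T6.In r = true) (a : F) : 1 + a • E6 F r ∈ OmM F := by
  rcases E6_cases (F := F) hr with ⟨-, h⟩ | ⟨-, -, k, l, h1, h3, c, -, h⟩
  · rw [h, smul_zero, add_zero]
    exact omM_one
  · have e : 1 + a • E6 F r = rt k l (a * c) := by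
      rw [h, smul_smul]; rfl
    rw [e]
    exact rt_mem_OmM h1 h3 _

theorem hX7 (h2 : (2 : F) ≠ 0) {z g : ↥(chevE7.group F)} {r : ℕ} {a : F} (hr : r < 126) (he : cor chevE7 r 0 % 2 = 0)
    (hg : (g : GL chevE7.Idx F) = xG inE7 r a) (hgz : g * z = z * g) :
    ∃ x : Matrix.SpecialLinearGroup (Fin 2) F, ∃ N ∈ OmM F, Rl7 z g x N :=
  ⟨⟨1 + a • E2 F r, det_one_E2 a⟩, _, E6_mem ((In_iff hr).2 he) a, rl_root h2 hr he hg hgz⟩

/-- the torus elements -/
def T7s (F : Type u) [Field F] : Set ↥(chevE7.group F) := {g | (g : GL chevE7.Idx F) ∈ chevE7.diagonalSubgroup F}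

/-- the root elements -/
def X7s (F : Type u) [Field F] : Set ↥(chevE7.group F) :=
  {g | ∃ r a, r < 126 ∧ cor chevE7 r 0 % 2 = 0 ∧ (g : GL chevE7.Idx F) = xG inE7 r a}

/-- the root elements of `A₁D₆` commute with `z` -/
theorem cz_root {z g : ↥(chevE7.group F)} (hz : Z7 z) (hzT : z ∈ T7s F) {r : ℕ} {a : F} (hr : r < 126)
    (he : cor chevE7 r 0 % 2 = 0) (hg : (g : GL chevE7.Idx F) = xG inE7 r a) : g * z = z * g := by
  obtain ⟨c, hc, hm, hx⟩ := Cfsg.Agent.H129.Tor.exists_c Cfsg.Agent.Nodes.KindE.isType7 hzT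
  have h1 := hx r hr a
  have h3 : ∏ i ∈ Finset.range chevE7.rank, c i ^ chevE7.cartan i r = 1 := by
    have h4 := congrFun (congrFun (hm.symm.trans hz) (Sum.inr ⟨r, hr⟩)) (Sum.inr ⟨r, hr⟩)
    rw [Matrix.diagonal_apply_eq, Matrix.diagonal_apply_eq, Sum.elim_inr, Sum.elim_inr, if_pos he] at h4
    exact h4
  rw [h3, one_mul, mul_inv_eq_iff_eq_mul] at h1
  apply Subtype.ext
  rw [Subgroup.coe_mul, Subgroup.coe_mul, hg]
  exact h1.symm

/-- the torus elements commute with `z` -/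
theorem cz_tor {z g : ↥(chevE7.group F)} (hz : Z7 z) (hg : g ∈ T7s F) : g * z = z * g := by
  obtain ⟨c, hc, hm, -⟩ := Cfsg.Agent.H129.Tor.exists_c Cfsg.Agent.Nodes.KindE.isType7 hg
  apply Subtype.ext
  apply Units.ext
  rw [Subgroup.coe_mul, Subgroup.coe_mul, Units.val_mul, Units.val_mul, hm,
    show ((z : GL chevE7.Idx F) : Matrix chevE7.Idx chevE7.Idx F) = _ from hz, Matrix.diagonal_mul_diagonal,
    Matrix.diagonal_mul_diagonal]
  congr 1
  funext j
  exact mul_comm _ _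

/-- `Ω₁₂` is reached -/
theorem hom7 (h2 : (2 : F) ≠ 0) {z : ↥(chevE7.group F)} (hz : Z7 z) (hzT : z ∈ T7s F) (k l : Fin 6 ⊕ Fin 6) (h1 : l ≠ k)
    (h3 : l ≠ k.swap) (t : F) : ∃ g, Rl7 z g 1 (rt k l t) := by
  obtain ⟨r, hr, hin, h4, h5, c, hc, e⟩ := hit7 (F := F) k l h1 h3
  have he := (In_iff hr).1 hin
  let g : ↥(chevE7.group F) := ⟨xG inE7 r (t * c), xG_mem_group inE7 r _⟩
  have h6 := rl_root h2 (z := z) (g := g) hr he rfl (cz_root hz hzT hr he rfl)
  refine ⟨g, ?_⟩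
  rw [E2_else h4 h5, smul_zero, add_zero, e, smul_smul, mul_assoc, hc, mul_one] at h6
  exact h6

/-- the elements of `E0` -/
theorem mem_E0 (h2 : (2 : F) ≠ 0) {z : ↥(chevE7.group F)} (hz : Z7 z) (hzT : z ∈ T7s F) {g : GL chevE7.Idx F} (hg : g ∈ E0 F) :
    ∃ h : g ∈ chevE7.group F, ∃ x : Matrix.SpecialLinearGroup (Fin 2) F, ∃ N ∈ OmM F, Rl7 z ⟨g, h⟩ x N := by
  have R := rd7 h2 hz
  induction hg using Subgroup.closure_induction with
  | mem g hg =>
    obtain ⟨r, hr, he, a, rfl⟩ := hg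
    exact ⟨xG_mem_group inE7 r a, hX7 h2 hr he rfl (cz_root hz hzT hr he rfl)⟩
  | one => exact ⟨one_mem _, 1, 1, omM_one, R.one⟩
  | mul g g' _ _ ih ih' =>
    obtain ⟨h, x, N, hN, h1⟩ := ih
    obtain ⟨h', x', N', hN', h1'⟩ := ih'
    exact ⟨mul_mem h h', x * x', N * N', omM_mul hN hN', by
      rw [Matrix.SpecialLinearGroup.coe_mul]
      exact R.mul h1 h1'⟩
  | inv g _ ih =>
    obtain ⟨h, x, N, hN, h1⟩ := ih
    obtain ⟨a', M', h3, h4, h5⟩ := R.inv h1
    obtain ⟨N', hN', h6, h7⟩ := omM_inv hN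
    have e1 : a' = ((x⁻¹ : Matrix.SpecialLinearGroup (Fin 2) F) : Matrix (Fin 2) (Fin 2) F) := by
      refine (left_inv_eq_right_inv (a := (x : Matrix (Fin 2) (Fin 2) F)) ?_ h4).symm
      rw [← Matrix.SpecialLinearGroup.coe_mul, inv_mul_cancel, Matrix.SpecialLinearGroup.coe_one]
    have e2 : M' = N' := (left_inv_eq_right_inv h7 h5).symm
    subst e2
    rw [e1] at h3
    exact ⟨inv_mem h, x⁻¹, M', hN', h3⟩

/-- **the generation** -/
theorem gn7 (h2 : (2 : F) ≠ 0) {z : ↥(chevE7.group F)} (hz : Z7 z) (hzT : z ∈ T7s F)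
    (gen : ∀ g, g * z = z * g → g ∈ Subgroup.closure (T7s F ∪ X7s F))
    (tor : ∀ {t : ↥(chevE7.group F)} {c : ℕ → F}, (∀ i < 7, c i ≠ 0) →
      ((t : GL chevE7.Idx F) : Matrix chevE7.Idx chevE7.Idx F) = Matrix.diagonal (Sum.elim (fun _ => (1 : F))
        (fun s : Fin chevE7.nroots => ∏ i ∈ Finset.range chevE7.rank, c i ^ chevE7.cartan i s)) → t * z = z * t →
      ∃ a M, Rl7 z t a M ∧ a.det = c 0) : Gn z (Rl7 z) (T7s F) (X7s F) where
  gen := gen
  hX := by
    rintro g ⟨r, a, hr, he, hg⟩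
    exact hX7 h2 hr he hg (cz_root hz hzT hr he hg)
  hT := by
    intro g hg
    obtain ⟨c, hc, hm, -⟩ := Cfsg.Agent.H129.Tor.exists_c Cfsg.Agent.Nodes.KindE.isType7 hg
    obtain ⟨a, M, h, -⟩ := tor hc hm (cz_tor hz hg)
    exact ⟨a, M, h⟩
  Tone := one_mem (chevE7.diagonalSubgroup F)
  Tmul g hg h hh := (chevE7.diagonalSubgroup F).mul_mem hg hh
  Tinv g hg := (chevE7.diagonalSubgroup F).inv_mem hg
  hsq := by
    intro g hg a M h hsq
    have R := rd7 h2 hz
    obtain ⟨c, hc, hm, -⟩ := Cfsg.Agent.H129.Tor.exists_c Cfsg.Agent.Nodes.KindE.isType7 hg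
    obtain ⟨a', M', h', hd⟩ := tor hc hm (cz_tor hz hg)
    obtain ⟨⟨e, he, h3⟩, -⟩ := R.uniq h' h
    have h4 : IsSquare (c 0) := by
      obtain ⟨y, hy⟩ := hsq
      rw [h3, Matrix.det_smul, Fintype.card_fin, hd] at hy
      exact ⟨y / e, by field_simp; linear_combination hy⟩
    obtain ⟨h5, x, N, hN, h6⟩ := mem_E0 h2 hz hzT (tor_mem hc hm h4)
    obtain ⟨-, d, hd0, h7⟩ := R.uniq h h6
    exact ⟨d, hd0, by rw [← h7]; exact hN⟩
  hom := hom7 h2 hz hzT

end

end Cfsg.Agent.H249.Co3
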