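import Cfsg.Agent.H249.Co3.Rel7

/-!
# S1920, case B, `E₇(q)`, THETA12: `RD z (Rl7 z)` (helper249)

* `Z7 z` : the matrix of `z`; `z_fix` : `z v = v ↔ v ∈ L₊`;
* `rd7` : `RD z (Rl7 z)`.
-/

set_option autoImplicit false
set_option linter.unusedSectionVars false
set_option maxRecDepth 100000

open QuadraticMap Module
open Cfsg.Agent.LieClassical.OrthCore Cfsg.Agent.LieClassical.OrthTrans Cfsg.Agent.LieClassical.OrthForms
  Cfsg.Agent.ClassicalGeometry.OrthAutBasic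
  Cfsg.Agent.LieClassical.OrthFinite Cfsg.Agent.H887.SiegelMethod

namespace Cfsg.Agent.H249.Co3

open Cfsg Cfsg.Lie Cfsg.Lie.ChevalleyDatum
open Cfsg.Agent.ChevalleyStructure Cfsg.Agent.ChevalleyStructure.Elts Cfsg.Agent.ChevalleyStructure.XColumns
open Cfsg.Agent.ChevalleyStructure.Columns (cor)
open Cfsg.Agent.H167.EX (rho)
open Cfsg.Agent.H736.Co3
open Matrix

universe u

section

variable {F : Type u} [Field F]

/-- the matrix of `z` -/
def Z7 (z : ↥(chevE7.group F)) : Prop :=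
  ((z : GL chevE7.Idx F) : Matrix chevE7.Idx chevE7.Idx F) =
    Matrix.diagonal (Sum.elim (fun _ => 1) fun s : Fin chevE7.nroots => if cor chevE7 s.val 0 % 2 = 0 then 1 else -1)

variable {z : ↥(chevE7.group F)}

theorem z_fix (h2 : (2 : F) ≠ 0) (hz : Z7 z) (v : chevE7.Idx → F) :
    ((z : GL chevE7.Idx F) : Matrix chevE7.Idx chevE7.Idx F) *ᵥ v = v ↔ v ∈ LP F := by
  have hIn : ∀ r : Fin chevE7.nroots, T6.In r = true ↔ cor chevE7 r.val 0 % 2 = 0 := fun r => In_iff r.2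
  rw [show ((z : GL chevE7.Idx F) : Matrix chevE7.Idx chevE7.Idx F) = _ from hz]
  constructor
  · intro h r hr
    have h1 := congrFun h (Sum.inr r)
    rw [Matrix.mulVec_diagonal, Sum.elim_inr, if_neg (fun h3 => by rw [(hIn r).2 h3] at hr; exact Bool.noConfusion hr)] at h1
    have h3 : (2 : F) * v (Sum.inr r) = 0 := by linear_combination -h1
    exact (mul_eq_zero.1 h3).resolve_left h2
  · intro h
    funext j
    rw [Matrix.mulVec_diagonal]
    rcases j with j | r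
    · rw [Sum.elim_inl, one_mul]
    · rw [Sum.elim_inr]
      by_cases hr : cor chevE7 r.val 0 % 2 = 0
      · rw [if_pos hr, one_mul]
      · rw [h r (by rw [← Bool.not_eq_true]; exact fun h3 => hr ((hIn r).1 h3)), mul_zero]

theorem LP_stable (h2 : (2 : F) ≠ 0) (hz : Z7 z) {g : ↥(chevE7.group F)} (hg : g * z = z * g) {v : chevE7.Idx → F} (hv : v ∈ LP F) :
    ((g : GL chevE7.Idx F) : Matrix chevE7.Idx chevE7.Idx F) *ᵥ v ∈ LP F := by
  have hg' : (g : GL chevE7.Idx F) * (z : GL chevE7.Idx F) = (z : GL chevE7.Idx F) * (g : GL chevE7.Idx F) :=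
    congrArg Subtype.val hg
  rw [← z_fix h2 hz, Matrix.mulVec_mulVec, ← Units.val_mul, ← hg', Units.val_mul, ← Matrix.mulVec_mulVec, (z_fix h2 hz v).2 hv]

/-! ### operations -/

/-- the condition on the squares -/
theorem iff_of_isSquare_mul {x y : F} (hx : x ≠ 0) (hy : y ≠ 0) (h : IsSquare (x * y)) : IsSquare x ↔ IsSquare y := by
  obtain ⟨a, ha⟩ := h
  have ha0 : a ≠ 0 := by
    rintro rfl
    rw [mul_zero] at ha
    exact mul_ne_zero hx hy ha
  constructor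
  · rintro ⟨b, rfl⟩
    have hb : b ≠ 0 := left_ne_zero_of_mul hx
    exact ⟨a / b, by field_simp; linear_combination ha⟩
  · rintro ⟨b, rfl⟩
    have hb : b ≠ 0 := left_ne_zero_of_mul hy
    exact ⟨a / b, by field_simp; linear_combination ha⟩

theorem Rl7.one (z : ↥(chevE7.group F)) : Rl7 z 1 1 1 where
  cz := by rw [one_mul, mul_one]
  det := by rw [Matrix.det_one]; exact one_ne_zero
  sim := ⟨1, one_ne_zero, fun v => by rw [Matrix.one_mulVec, one_mul], by rw [Matrix.det_one]; exact ⟨1, rfl⟩⟩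
  d2 v _ := by
    rw [mul_one, one_mul, Subgroup.coe_one, Units.val_one, Matrix.one_mulVec]
  d6 v _ := by
    rw [mul_one, one_mul, Subgroup.coe_one, Units.val_one, Matrix.one_mulVec]

theorem Rl7.mul (h2 : (2 : F) ≠ 0) (hz : Z7 z) {g g' : ↥(chevE7.group F)} {a a' : Matrix (Fin 2) (Fin 2) F} {M M' : M12 F}
    (h : Rl7 z g a M) (h' : Rl7 z g' a' M') : Rl7 z (g * g') (a * a') (M * M') where
  cz := by rw [mul_assoc, h'.cz, ← mul_assoc, h.cz, mul_assoc]
  det := by rw [Matrix.det_mul]; exact mul_ne_zero h.det h'.det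
  sim := by
    obtain ⟨μ, h1, h3, h4⟩ := h.sim
    obtain ⟨ν, h5, h6, h7⟩ := h'.sim
    refine ⟨μ * ν, mul_ne_zero h1 h5, fun v => ?_, ?_⟩
    · rw [← Matrix.mulVec_mulVec, h3, h6]; ring
    · rw [Matrix.det_mul]
      have := h4.mul h7
      rwa [mul_mul_mul_comm] at this
  d2 v hv := by
    rw [Subgroup.coe_mul, Units.val_mul, ← Matrix.mulVec_mulVec, ← mul_assoc, h.d2 _ (LP_stable h2 hz h'.cz hv), mul_assoc,
      h'.d2 v hv, mul_assoc]
  d6 v hv := by
    rw [Subgroup.coe_mul, Units.val_mul, ← Matrix.mulVec_mulVec, ← mul_assoc, h.d6 _ (LP_stable h2 hz h'.cz hv), mul_assoc,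
      h'.d6 v hv, mul_assoc]

/-- the inverse of a similitude -/
theorem sim_inv {M : M12 F} {μ : F} (hμ : μ ≠ 0) (h : ∀ v, plusForm 6 F (M.mulVec v) = μ * plusForm 6 F v) :
    (μ⁻¹ • st M) * M = 1 := by
  have h1 : ∀ x y, polar (plusForm 6 F) (M *ᵥ x) (M *ᵥ y) = μ * polar (plusForm 6 F) x y := by
    intro x y
    unfold QuadraticMap.polar
    rw [← Matrix.mulVec_add, h, h, h]; ring
  have h3 : st M * M = μ • 1 := by
    apply Matrix.mulVec_injective
    funext y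
    show (st M * M) *ᵥ y = (μ • (1 : M12 F)) *ᵥ y
    have h4 : ∀ x, polar (plusForm 6 F) x ((st M * M) *ᵥ y) = polar (plusForm 6 F) x ((μ • (1 : M12 F)) *ᵥ y) := by
      intro x
      rw [← Matrix.mulVec_mulVec, ← polar_mulVec, h1, Matrix.smul_mulVec, Matrix.one_mulVec, polar_smul_right, smul_eq_mul]
    rw [← sub_eq_zero]
    refine nondeg_plusForm 6 F _ fun x => ?_
    rw [polar_comm, sub_eq_add_neg, polar_add_right, polar_neg_right, h4, add_neg_cancel]
  rw [smul_mul_assoc, h3, smul_smul, inv_mul_cancel₀ hμ, one_smul]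

theorem Rl7.inv (h2 : (2 : F) ≠ 0) (hz : Z7 z) {g : ↥(chevE7.group F)} {a : Matrix (Fin 2) (Fin 2) F} {M : M12 F}
    (h : Rl7 z g a M) : ∃ a' M', Rl7 z g⁻¹ a' M' ∧ a * a' = 1 ∧ M * M' = 1 := by
  obtain ⟨μ, h1, h3, h4⟩ := h.sim
  have e1 := sim_inv h1 h3
  have e2 : M * (μ⁻¹ • st M) = 1 := mul_eq_one_comm.1 e1
  have ha : a * a⁻¹ = 1 := Matrix.mul_nonsing_inv a (isUnit_iff_ne_zero.2 h.det)
  have ha' : a⁻¹ * a = 1 := mul_eq_one_comm.1 ha
  have hcz : g⁻¹ * z = z * g⁻¹ := by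
    rw [inv_mul_eq_iff_eq_mul, ← mul_assoc, h.cz, mul_assoc, mul_inv_cancel, mul_one]
  have hgg : ∀ v, ((g : GL chevE7.Idx F) : Matrix chevE7.Idx chevE7.Idx F) *ᵥ
      (((g⁻¹ : ↥(chevE7.group F)) : GL chevE7.Idx F) : Matrix chevE7.Idx chevE7.Idx F) *ᵥ v = v := by
    intro v
    rw [Matrix.mulVec_mulVec, ← Units.val_mul, ← Subgroup.coe_mul, mul_inv_cancel, Subgroup.coe_one, Units.val_one,
      Matrix.one_mulVec]
  refine ⟨a⁻¹, μ⁻¹ • st M, ⟨hcz, ?_, ?_, ?_, ?_⟩, ha, e2⟩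
  · intro h5
    have h6 := congrArg Matrix.det ha
    rw [Matrix.det_mul, h5, mul_zero, Matrix.det_one] at h6
    exact zero_ne_one h6
  · refine ⟨μ⁻¹, inv_ne_zero h1, fun v => ?_, ?_⟩
    · have h5 := h3 ((μ⁻¹ • st M) *ᵥ v)
      rw [Matrix.mulVec_mulVec, e2, Matrix.one_mulVec] at h5
      rw [h5, inv_mul_cancel_left₀ h1]
    · have h6 := congrArg Matrix.det ha
      rw [Matrix.det_mul, Matrix.det_one] at h6
      have h7 : (a⁻¹).det = (a.det)⁻¹ := eq_inv_of_mul_eq_one_right h6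
      rw [h7, ← mul_inv]
      exact h4.inv
  · intro v hv
    have h5 := h.d2 _ (LP_stable h2 hz hcz hv)
    rw [hgg] at h5
    have h6 := congrArg (fun X => a⁻¹ * X * a⁻¹) h5
    rw [mul_assoc a⁻¹ _ a⁻¹, mul_assoc _ a a⁻¹, ha, mul_one, ← mul_assoc a⁻¹ a, ha', one_mul] at h6
    exact h6.symm
  · intro v hv
    have h5 := h.d6 _ (LP_stable h2 hz hcz hv)
    rw [hgg] at h5
    have h6 := congrArg (fun X => (μ⁻¹ • st M) * X * (μ⁻¹ • st M)) h5
    rw [mul_assoc (μ⁻¹ • st M) _ (μ⁻¹ • st M), mul_assoc _ M (μ⁻¹ • st M), e2, mul_one, ← mul_assoc (μ⁻¹ • st M) M, e1,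
      one_mul] at h6
    exact h6.symm

theorem Rl7.scal {g : ↥(chevE7.group F)} {a : Matrix (Fin 2) (Fin 2) F} {M : M12 F} {c d : F}
    (h : Rl7 z g a M) (hc : c ≠ 0) (hd : d ≠ 0) : Rl7 z g (c • a) (d • M) where
  cz := h.cz
  det := by
    rw [Matrix.det_smul]
    exact mul_ne_zero (pow_ne_zero _ hc) h.det
  sim := by
    obtain ⟨μ, h1, h3, h4⟩ := h.sim
    refine ⟨d * d * μ, mul_ne_zero (mul_ne_zero hd hd) h1, fun v => ?_, ?_⟩
    · rw [Matrix.smul_mulVec, QuadraticMap.map_smul, h3, smul_eq_mul]; ring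
    · rw [Matrix.det_smul, Fintype.card_fin]
      obtain ⟨y, hy⟩ := h4
      exact ⟨d * c * y, by linear_combination (d * d * c * c) * hy⟩
  d2 v hv := by rw [mul_smul_comm, smul_mul_assoc, h.d2 v hv]
  d6 v hv := by rw [mul_smul_comm, smul_mul_assoc, h.d6 v hv]

/-! ### the scalars -/

theorem th2_ev {s : ℕ} (hs : s < 126) : th2 F (ev chevE7 F s) = (2 : F) • E2 F s := by
  exact (congrArg (rx F) (Th_ev T2 chevE7 F hs)).trans (map_smul (rx F) (2 : F) _)

theorem th6_ev {s : ℕ} (hs : s < 126) : th6 F (ev chevE7 F s) = (2 : F) • E6 F s := Th_ev T6 chevE7 F hs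

theorem sm_one {i j : ℕ} : sm 1 F [(i, j, 1)] = Matrix.single (ix 1 i) (ix 1 j) 1 := by
  rw [sm_cons, sm_nil, add_zero, Int.cast_one]

theorem rx_single (i j : Fin 1 ⊕ Fin 1) (c : F) : rx F (Matrix.single i j c) =
    Matrix.single (finSumFinEquiv i) (finSumFinEquiv j) c := by
  ext k l
  show Matrix.single i j c (finSumFinEquiv.symm k) (finSumFinEquiv.symm l) = _
  rw [Matrix.single_apply, Matrix.single_apply]
  congr 1
  rw [eq_iff_iff, Equiv.eq_symm_apply, Equiv.eq_symm_apply]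

theorem E2_125 : E2 F 125 = Matrix.single 0 1 1 := by
  have h : E2 F 125 = rx F (sm 1 F [(0, 1, 1)]) := rfl
  rw [h, sm_one, rx_single]; rfl

theorem E2_0 : E2 F 0 = Matrix.single 1 0 1 := by
  have h : E2 F 0 = rx F (sm 1 F [(1, 0, 1)]) := rfl
  rw [h, sm_one, rx_single]; rfl

theorem E2_else {r : ℕ} (h1 : r ≠ 125) (h0 : r ≠ 0) : E2 F r = 0 := by
  have h : T2.E r = [] := by
    cases hin : T2.In r
    · exact T2_ok.out r hin
    · obtain ⟨p, hp, hpr, hpE⟩ := spec2 hin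
      have h3 := List.all_eq_true.1 c2_3 p hp
      rw [Bool.or_eq_true, Bool.or_eq_true] at h3
      rcases h3 with h3 | h3 | h3
      · exact absurd (by rw [← hpr]; exact Nat.eq_of_beq_eq_true h3) h1
      · exact absurd (by rw [← hpr]; exact Nat.eq_of_beq_eq_true h3) h0
      · rw [hpE, List.isEmpty_iff.1 h3]
  unfold E2
  rw [h, sm_nil]
  exact map_zero (rx F)

/-- the root matrices of `D₆` -/
theorem E6_cases {r : ℕ} (hr : T6.In r = true) : ((r = 125 ∨ r = 0) ∧ E6 F r = 0) ∨ (r ≠ 125 ∧ r ≠ 0 ∧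
    ∃ k l : Fin 6 ⊕ Fin 6, l ≠ k ∧ l ≠ k.swap ∧ ∃ c : F, c * c = 1 ∧ E6 F r = c • EE F k l) := by
  obtain ⟨p, hp, hpr, hpE⟩ := spec6 hr
  have h3 := List.all_eq_true.1 c6_7 p hp
  cases h : (Nat.beq p.r 125 || Nat.beq p.r 0)
  · right
    rw [h, cond_false] at h3
    have hr1 : r ≠ 125 ∧ r ≠ 0 := by
      rw [← hpr]
      rw [Bool.or_eq_false_iff] at h
      refine ⟨fun h4 => ?_, fun h4 => ?_⟩
      · rw [h4] at h; exact absurd h.1 (by decide)
      · rw [h4] at h; exact absurd h.2 (by decide)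
    refine ⟨hr1.1, hr1.2, ?_⟩
    split at h3
    · rename_i a b hA
      simp only [Bool.and_eq_true, decide_eq_true_eq, Bool.not_eq_true'] at h3
      obtain ⟨⟨⟨⟨⟨⟨⟨q1, q2⟩, q3⟩, q4⟩, q5⟩, q6⟩, q7⟩, q8⟩ := h3
      have q1 := Nat.eq_of_beq_eq_true q1
      have q2 := Nat.eq_of_beq_eq_true q2
      have q5' : a.1 < 6 + 6 := Eq.mp Nat.blt_eq q5
      have q6' : a.2.1 < 6 + 6 := Eq.mp Nat.blt_eq q6
      have q7' : a.1 ≠ a.2.1 := fun h4 => by rw [h4, Nat.beq_refl] at q7; exact Bool.noConfusion q7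
      have q8' : a.1 ≠ opn 6 a.2.1 := fun h4 => by rw [← h4, Nat.beq_refl] at q8; exact Bool.noConfusion q8
      refine ⟨ix 6 a.2.1, ix 6 a.1, fun h4 => q7' (ix_inj q5' q6' h4), fun h4 => ?_, (a.2.2 : F), ?_, ?_⟩
      · rw [← ix_opn q6'] at h4
        exact q8' (ix_inj q5' (opn_lt q6') h4)
      · rw [← Int.cast_mul, q4, Int.cast_one]
      · show sm T6.m F (T6.E r) = _
        rw [hpE, hA]
        show sm 6 F [a, b] = _
        rw [sm_cons, sm_cons, sm_nil, add_zero, q1, q2, q3, ix_opn q6', ix_opn q5', EE, smul_sub, Matrix.smul_single,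
          Matrix.smul_single, smul_eq_mul, mul_one, Int.cast_neg, sub_eq_add_neg, ← Matrix.single_neg]
    · exact absurd h3 Bool.false_ne_true
  · left
    rw [h, cond_true] at h3
    refine ⟨?_, ?_⟩
    · rw [Bool.or_eq_true] at h
      rw [← hpr]
      exact h.imp Nat.eq_of_beq_eq_true Nat.eq_of_beq_eq_true
    · show sm T6.m F (T6.E r) = 0
      rw [hpE, List.isEmpty_iff.1 h3, sm_nil]

theorem AA_eq (k l : Fin 6 ⊕ Fin 6) : AA 6 F l k = EE F k l := rfl

theorem EE_ne {k l : Fin 6 ⊕ Fin 6} (h3 : l ≠ k.swap) : EE F k l ≠ 0 := by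
  intro h
  have h4 := congrFun (congrFun h l) k
  rw [EE, Matrix.sub_apply, Matrix.single_apply_same, Matrix.single_apply_of_ne, sub_zero, Matrix.zero_apply] at h4
  · exact one_ne_zero h4
  · rintro ⟨h5, h6⟩
    exact h3 h5.symm

/-- **the root vectors occur** -/
theorem hit7 (k l : Fin 6 ⊕ Fin 6) (h1 : l ≠ k) (h3 : l ≠ k.swap) : ∃ r < 126, T6.In r = true ∧ r ≠ 125 ∧ r ≠ 0 ∧
    ∃ c : F, c * c = 1 ∧ E6 F r = c • EE F k l := by
  obtain ⟨r, hr, c, hc, e⟩ := T6_ok2.hitA (F := F) T6_ok (i := l) (j := k) h1 h3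
  refine ⟨r, T6_ok.lt r hr, hr, ?_⟩
  have e' : E6 F r = c • EE F k l := e
  rcases E6_cases (F := F) hr with ⟨-, h4⟩ | ⟨h4, h5, -⟩
  · exfalso
    rw [h4] at e'
    have hc0 : c ≠ 0 := by
      rintro rfl
      rw [mul_zero] at hc
      exact zero_ne_one hc
    exact (smul_ne_zero hc0 (EE_ne h3)) e'.symm
  · exact ⟨h4, h5, c, hc, e'⟩

theorem In_125 : T6.In 125 = true := c7_1.1

theorem In_0 : T6.In 0 = true := c7_1.2

/-- **uniqueness** -/
theorem Rl7.uniq1 (h2 : (2 : F) ≠ 0) {a : Matrix (Fin 2) (Fin 2) F} {M : M12 F} (h : Rl7 z 1 a M) :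
    (∃ c : F, a = c • 1) ∧ ∃ c : F, M = c • 1 := by
  have k2 : ∀ v ∈ LP F, th2 F v * a = a * th2 F v := by
    intro v hv
    have h1 := h.d2 v hv
    rwa [Subgroup.coe_one, Units.val_one, Matrix.one_mulVec] at h1
  have k6 : ∀ v ∈ LP F, th6 F v * M = M * th6 F v := by
    intro v hv
    have h1 := h.d6 v hv
    rwa [Subgroup.coe_one, Units.val_one, Matrix.one_mulVec] at h1
  constructor
  · refine scalar_of_comm2 ?_ ?_
    · have h1 := k2 _ (ev_mem (T := T6) (F := F) (D := chevE7) In_125)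
      rw [th2_ev (by norm_num), E2_125, smul_mul_assoc, mul_smul_comm] at h1
      exact (smul_right_injective _ h2 h1).symm
    · have h1 := k2 _ (ev_mem (T := T6) (F := F) (D := chevE7) In_0)
      rw [th2_ev (by norm_num), E2_0, smul_mul_assoc, mul_smul_comm] at h1
      exact (smul_right_injective _ h2 h1).symm
  · refine scalar_of_comm (by norm_num) fun k l h1 h3 => ?_
    obtain ⟨r, hr, hin, -, -, c, hc, e⟩ := hit7 (F := F) k l h1 h3
    have h4 := k6 _ (ev_mem (T := T6) (F := F) (D := chevE7) hin)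
    rw [th6_ev hr, e, smul_smul, smul_mul_assoc, mul_smul_comm] at h4
    have hc0 : c ≠ 0 := by
      rintro rfl
      rw [mul_zero] at hc
      exact zero_ne_one hc
    exact (smul_right_injective _ (mul_ne_zero h2 hc0) h4).symm

/-- **the kernel** -/
theorem Rl7.ker (h2 : (2 : F) ≠ 0) (hz : Z7 z) {g : ↥(chevE7.group F)} (h : Rl7 z g 1 1) : g = 1 ∨ g = z := by
  have hfix : ∀ v ∈ LP F, ((g : GL chevE7.Idx F) : Matrix chevE7.Idx chevE7.Idx F) *ᵥ v = v := by
    intro v hv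
    rw [← sub_eq_zero]
    refine inj7 h2 (Submodule.sub_mem _ (LP_stable h2 hz h.cz hv) hv) ?_ ?_
    · have h1 := h.d2 v hv
      rw [mul_one, one_mul] at h1
      rw [map_sub, h1, sub_self]
    · have h1 := h.d6 v hv
      rw [mul_one, one_mul] at h1
      rw [map_sub, h1, sub_self]
  obtain ⟨ε, hε, hm⟩ := ker7 h2 g fun s hs hse => by
    rw [rho_eq_mulVec]
    have h3 : Cfsg.Agent.H553.KKL.ex chevE7 F s = ev chevE7 F s := by
      rw [ex_eq hs, ev_eq_single (D := chevE7) hs]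
    rw [h3]
    exact hfix _ (ev_mem ((In_iff hs).2 hse))
  rcases mul_self_eq_one_iff.1 hε with h3 | h3
  · left
    apply Subtype.ext
    apply Units.ext
    rw [hm, h3, Subgroup.coe_one, Units.val_one, ← Matrix.diagonal_one]
    congr 1
    funext j
    rcases j with j | j
    · rfl
    · rw [Sum.elim_inr, ite_self]
  · right
    apply Subtype.ext
    apply Units.ext
    rw [hm, h3]
    exact hz.symm

/-- **the relation** -/
theorem rd7 (h2 : (2 : F) ≠ 0) (hz : Z7 z) : RD z (Rl7 z) where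
  two := h2
  cz h := h.cz
  det h := h.det
  sim h := by
    obtain ⟨μ, h1, h3, h4⟩ := h.sim
    exact ⟨μ, h1, h3, iff_of_isSquare_mul h1 h.det h4⟩
  one := Rl7.one z
  mul h h' := h.mul h2 hz h'
  inv h := h.inv h2 hz
  scal h hc hd := h.scal hc hd
  uniq1 h := h.uniq1 h2
  ker h := h.ker h2 hz

end

end Cfsg.Agent.H249.Co3
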