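import Cfsg.Agent.H736.Co3.Rel
import Cfsg.Prelude.Def_ChevE7
import Cfsg.Agent.ChevalleyStructure.RootVecTab

/-!
# S1920: the subsystem `A1 D6` of `E7` (helper249, with the generator of helper736); tables checked by the kernel

`T6` : the matrices of `D6` (and 0 for `±β`), `T2` : the matrices of `A1` (and 0 for the roots of `D6`), same mask.
-/

set_option autoImplicit false

namespace Cfsg.Agent.H249.Co3

open Cfsg.Lie Cfsg.Agent.ChevalleyStructure.XColumns Cfsg.Agent.H736.Co3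

def es6 : List Sp := [[], [], [], [], [], [], [], [], [], [], [], [], [], [], [], [], [], [], [], [], [], [], [], [], [], [], [],
  [], [], [], [], [], [], [(6, 1, -1), (7, 0, 1)], [(6, 2, -1), (8, 0, 1)], [(7, 2, -1), (8, 1, 1)],
  [(6, 3, -1), (9, 0, 1)], [(7, 3, -1), (9, 1, 1)], [(8, 3, -1), (9, 2, 1)], [(6, 4, -1), (10, 0, 1)],
  [(7, 4, -1), (10, 1, 1)], [(8, 4, -1), (10, 2, 1)], [(9, 4, -1), (10, 3, 1)], [(6, 5, -1), (11, 0, 1)],
  [(7, 5, -1), (11, 1, 1)], [(8, 5, -1), (11, 2, 1)], [(9, 5, -1), (11, 3, 1)], [(10, 5, -1), (11, 4, 1)],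
  [(5, 0, 1), (6, 11, -1)], [(5, 1, 1), (7, 11, -1)], [(5, 2, 1), (8, 11, -1)], [(5, 3, 1), (9, 11, -1)],
  [(5, 4, 1), (10, 11, -1)], [(4, 0, 1), (6, 10, -1)], [(4, 1, 1), (7, 10, -1)], [(4, 2, 1), (8, 10, -1)],
  [(4, 3, 1), (9, 10, -1)], [(3, 0, 1), (6, 9, -1)], [(3, 1, 1), (7, 9, -1)], [(3, 2, 1), (8, 9, -1)],
  [(2, 0, 1), (6, 8, -1)], [(2, 1, 1), (7, 8, -1)], [(1, 0, 1), (6, 7, -1)], [(0, 1, 1), (7, 6, -1)],
  [(1, 2, 1), (8, 7, -1)], [(0, 2, 1), (8, 6, -1)], [(2, 3, 1), (9, 8, -1)], [(1, 3, 1), (9, 7, -1)],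
  [(0, 3, 1), (9, 6, -1)], [(3, 4, 1), (10, 9, -1)], [(2, 4, 1), (10, 8, -1)], [(1, 4, 1), (10, 7, -1)],
  [(0, 4, 1), (10, 6, -1)], [(4, 5, 1), (11, 10, -1)], [(3, 5, 1), (11, 9, -1)], [(2, 5, 1), (11, 8, -1)],
  [(1, 5, 1), (11, 7, -1)], [(0, 5, 1), (11, 6, -1)], [(4, 11, 1), (5, 10, -1)], [(3, 11, 1), (5, 9, -1)],
  [(2, 11, 1), (5, 8, -1)], [(1, 11, 1), (5, 7, -1)], [(0, 11, 1), (5, 6, -1)], [(3, 10, 1), (4, 9, -1)],
  [(2, 10, 1), (4, 8, -1)], [(1, 10, 1), (4, 7, -1)], [(0, 10, 1), (4, 6, -1)], [(2, 9, 1), (3, 8, -1)],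
  [(1, 9, 1), (3, 7, -1)], [(0, 9, 1), (3, 6, -1)], [(1, 8, 1), (2, 7, -1)], [(0, 8, 1), (2, 6, -1)],
  [(0, 7, 1), (1, 6, -1)], [], [], [], [], [], [], [], [], [], [], [], [], [], [], [], [], [], [], [], [], [],
  [], [], [], [], [], [], [], [], [], [], [], []]

def hs6 : List Sp := [
  [(0, 0, -1), (1, 1, -1), (2, 2, -1), (3, 3, -1), (4, 4, -1), (5, 5, 1), (6, 6, 1), (7, 7, 1), (8, 8, 1), (9, 9, 1), (10, 10, 1), (11, 11, -1)],
  [(4, 4, 2), (5, 5, 2), (10, 10, -2), (11, 11, -2)], [(4, 4, 2), (5, 5, -2), (10, 10, -2), (11, 11, 2)],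
  [(3, 3, 2), (4, 4, -2), (9, 9, -2), (10, 10, 2)], [(2, 2, 2), (3, 3, -2), (8, 8, -2), (9, 9, 2)],
  [(1, 1, 2), (2, 2, -2), (7, 7, -2), (8, 8, 2)], [(0, 0, 2), (1, 1, -2), (6, 6, -2), (7, 7, 2)]]

/-- the exponents of the characters of the torus on the natural module -/
def ex6 : List (List ℤ) := [[0, 0, 0, 0, 0, 1, 1, 1, 1, 1, 1, 0], [0, 0, 0, 0, 1, 1, 0, 0, 0, 0, -1, -1],
  [0, 0, 0, 0, 1, -1, 0, 0, 0, 0, -1, 1], [0, 0, 0, 1, -1, 0, 0, 0, 0, -1, 1, 0],
  [0, 0, 1, -1, 0, 0, 0, 0, -1, 1, 0, 0], [0, 1, -1, 0, 0, 0, 0, -1, 1, 0, 0, 0],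
  [0, -2, -1, -1, -1, -1, -2, 0, -1, -1, -1, -1]]

/-- the tables of `D6` -/
def T6 : Tb := ⟨6, 42535295875020828247204868119574085633, es6, hs6⟩

instance : NeZero T6.m := ⟨by decide⟩

def rws6 : List Tb.Rw := [⟨0, 125, 42535295855213787618638783729778032640, 0, 0, []⟩,
  ⟨33, 92, 40396394082720437212817904849798627328, 192, 3, [(6, 1, -1), (7, 0, 1)]⟩,
  ⟨34, 91, 38973542486505611986842319452289138688, 320, 5, [(6, 2, -1), (8, 0, 1)]⟩,
  ⟨35, 90, 38262116688135199474263556018414829568, 384, 6, [(7, 2, -1), (8, 1, 1)]⟩,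
  ⟨36, 89, 36141022856635400952209413833992183808, 576, 9, [(6, 3, -1), (9, 0, 1)]⟩,
  ⟨37, 88, 35433552126280790586571264534268612608, 640, 10, [(7, 3, -1), (9, 1, 1)]⟩,
  ⟨38, 87, 34020588200105470500317274906321618944, 768, 12, [(8, 3, -1), (9, 2, 1)]⟩,
  ⟨39, 86, 30605998911355551307128653521332208640, 1088, 17, [(6, 4, -1), (10, 0, 1)]⟩,
  ⟨40, 85, 29934892005577491376658881613464338944, 1152, 18, [(7, 4, -1), (10, 1, 1)]⟩,
  ⟨41, 84, 28594629108705062198291312876144689408, 1280, 20, [(8, 4, -1), (10, 2, 1)]⟩,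
  ⟨42, 83, 25924489812601909865720913722512113792, 1536, 24, [(9, 4, -1), (10, 3, 1)]⟩,
  ⟨43, 82, 19938952358154353993179289919581955072, 2112, 33, [(6, 5, -1), (11, 0, 1)]⟩,
  ⟨44, 81, 19274234411328981986405393849166942720, 2176, 34, [(7, 5, -1), (11, 1, 1)]⟩,
  ⟨45, 80, 17944832744763077101319103677978429696, 2304, 36, [(8, 5, -1), (11, 2, 1)]⟩,
  ⟨46, 79, 15286193574887079677789887195194079360, 2560, 40, [(9, 5, -1), (11, 3, 1)]⟩,
  ⟨47, 78, 9969219475920508800639259512636704640, 3072, 48, [(10, 5, -1), (11, 4, 1)]⟩,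
  ⟨48, 77, 21882935435331809339935433417537617984, 96, 2049, [(5, 0, 1), (6, 11, -1)]⟩,
  ⟨49, 76, 21834906529347999506556550663774666784, 160, 2050, [(5, 1, 1), (7, 11, -1)]⟩,
  ⟨50, 75, 21740796066908964349883413447698415632, 288, 2052, [(5, 2, 1), (8, 11, -1)]⟩,
  ⟨51, 74, 21562959857095046974458203943069417480, 544, 2056, [(5, 3, 1), (9, 11, -1)]⟩,
  ⟨52, 73, 21308537290272010803079642635661344772, 1056, 2064, [(5, 4, 1), (10, 11, -1)]⟩,
  ⟨53, 72, 11215888882049174225815217116543033408, 80, 1025, [(4, 0, 1), (6, 10, -1)]⟩,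
  ⟨54, 71, 11174248935126636049847355909513236512, 144, 1026, [(4, 1, 1), (7, 10, -1)]⟩,
  ⟨55, 70, 11090999703048417053299993897297037328, 272, 1028, [(4, 2, 1), (8, 10, -1)]⟩,
  ⟨56, 69, 10924663619488800520312062948558256136, 528, 1032, [(4, 3, 1), (9, 10, -1)]⟩,
  ⟨57, 68, 5680864936092643332769678853647991872, 72, 513, [(3, 0, 1), (6, 9, -1)]⟩,
  ⟨58, 67, 5675588814559047101788251800653087264, 136, 514, [(3, 1, 1), (7, 9, -1)]⟩,
  ⟨59, 66, 5665040612189914767833677798476661008, 264, 516, [(3, 2, 1), (8, 9, -1)]⟩,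
  ⟨60, 65, 2848345303447362948335179799661716544, 68, 257, [(2, 0, 1), (6, 8, -1)]⟩,
  ⟨61, 64, 2847024252714933564296040686448611872, 132, 258, [(2, 1, 1), (7, 8, -1)]⟩,
  ⟨62, 63, 1425493702456110897406060169676760128, 66, 129, [(1, 0, 1), (6, 7, -1)]⟩,
  ⟨63, 62, 712746851228055448703030084838380064, 129, 66, [(0, 1, 1), (7, 6, -1)]⟩,
  ⟨64, 61, 1423512126357466771771726801762683152, 258, 132, [(1, 2, 1), (8, 7, -1)]⟩,
  ⟨65, 60, 712086325861840737083794949915429136, 257, 68, [(0, 2, 1), (8, 6, -1)]⟩,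
  ⟨66, 59, 2828565235293790111402400571454140552, 516, 264, [(2, 3, 1), (9, 8, -1)]⟩,
  ⟨67, 58, 1415601311305455768701271901932759176, 514, 136, [(1, 3, 1), (9, 7, -1)]⟩,
  ⟨68, 57, 708130581610996837192432388739045512, 513, 72, [(0, 3, 1), (9, 6, -1)]⟩,
  ⟨69, 56, 5353266954646361395745751564211455748, 1032, 528, [(3, 4, 1), (10, 9, -1)]⟩,
  ⟨70, 55, 2683127661309854306545052512307381892, 1028, 272, [(2, 4, 1), (10, 8, -1)]⟩,
  ⟨71, 54, 1342864767030608839505568742687507844, 1026, 144, [(1, 4, 1), (10, 7, -1)]⟩,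
  ⟨72, 53, 671757862725096279931525096178844548, 1025, 80, [(0, 4, 1), (10, 6, -1)]⟩,
  ⟨73, 52, 10634462872094438123220348492381812738, 2064, 1056, [(4, 5, 1), (11, 10, -1)]⟩,
  ⟨74, 51, 5317488774075052879055527964315862786, 2056, 544, [(3, 5, 1), (11, 9, -1)]⟩,
  ⟨75, 50, 2658849606992883230562543913828169346, 2052, 288, [(2, 5, 1), (11, 8, -1)]⟩,
  ⟨76, 49, 1329447943074527120294416930457038210, 2050, 160, [(1, 5, 1), (11, 7, -1)]⟩,
  ⟨77, 48, 664729997830432611474912341127093122, 2049, 96, [(0, 5, 1), (11, 6, -1)]⟩,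
  ⟨78, 47, 623076217235690368832459258242007160, 48, 3072, [(4, 11, 1), (5, 10, -1)]⟩,
  ⟨79, 46, 368653651360425403879218079192842356, 40, 2560, [(3, 11, 1), (5, 9, -1)]⟩,
  ⟨80, 45, 190817444341506950375811247803990124, 36, 2304, [(2, 11, 1), (5, 8, -1)]⟩,
  ⟨81, 44, 96706984552362862295249848036360284, 34, 2176, [(1, 11, 1), (5, 7, -1)]⟩,
  ⟨82, 43, 48678080154515114421219905643085884, 33, 2112, [(0, 11, 1), (5, 6, -1)]⟩,
  ⟨83, 42, 332875470915797909788377562921156722, 24, 1536, [(3, 10, 1), (4, 9, -1)]⟩,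
  ⟨84, 41, 166539390142168252620306869303455850, 20, 1280, [(2, 10, 1), (4, 8, -1)]⟩,
  ⟨85, 40, 83290160695816232409429925559314522, 18, 1152, [(1, 10, 1), (4, 7, -1)]⟩,
  ⟨86, 39, 41650215323191957408137078426851386, 17, 1088, [(0, 10, 1), (4, 6, -1)]⟩,
  ⟨87, 38, 21101816970935633226132769223018086, 12, 768, [(2, 9, 1), (3, 8, -1)]⟩,
  ⟨88, 37, 10553617098273904495351727095055702, 10, 640, [(1, 9, 1), (3, 7, -1)]⟩,
  ⟨89, 36, 5277496843798831849789180013986614, 9, 576, [(0, 9, 1), (3, 6, -1)]⟩,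
  ⟨90, 35, 2642803913468048263405517656302798, 6, 384, [(1, 8, 1), (2, 7, -1)]⟩,
  ⟨91, 34, 1321753531705181486527413995442862, 5, 320, [(0, 8, 1), (2, 6, -1)]⟩,
  ⟨92, 33, 661228340823739797517914603653534, 3, 192, [(0, 7, 1), (1, 6, -1)]⟩, ⟨125, 0, 8589934590, 0, 0, []⟩]

theorem T6_1 : rws6.all (fun p => Tb.Rw.ok T6 chevE7 p) = true := by decide +kernel

theorem T6_2 : rws6.all (fun p => rws6.all fun q => Tb.pairOk p q) = true := by decide +kernel

theorem T6_3 : Tb.okRest T6 126 rws6 = true := by decide +kernel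

theorem T6_ok : T6.Ok chevE7 :=
  Tb.ok_of T6 chevE7 T6_1 T6_2 T6_3 fun r _ =>
    (Cfsg.Agent.ChevalleyStructure.RootVec.row_pairwise Cfsg.Agent.ChevalleyStructure.RootVecTab.checked_E7 r).imp ne_of_lt

def es2 : List Sp := [[(1, 0, 1)], [], [], [], [], [], [], [], [], [], [], [], [], [], [], [], [], [], [], [], [], [], [], [], [],
  [], [], [], [], [], [], [], [], [], [], [], [], [], [], [], [], [], [], [], [], [], [], [], [], [], [], [],
  [], [], [], [], [], [], [], [], [], [], [], [], [], [], [], [], [], [], [], [], [], [], [], [], [], [], [],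
  [], [], [], [], [], [], [], [], [], [], [], [], [], [], [], [], [], [], [], [], [], [], [], [], [], [], [],
  [], [], [], [], [], [], [], [], [], [], [], [], [], [], [], [], [], [], [], [(0, 1, 1)]]

def hs2 : List Sp := [[(0, 0, 1), (1, 1, -1)], [], [], [], [], [], []]

/-- the tables of `A1` -/
def T2 : Tb := ⟨1, 42535295875020828247204868119574085633, es2, hs2⟩

instance : NeZero T2.m := ⟨by decide⟩

def rws2 : List Tb.Rw := [⟨0, 125, 42535295855213787618638783729778032640, 2, 1, [(1, 0, 1)]⟩,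
  ⟨33, 92, 40396394082720437212817904849798627328, 0, 0, []⟩,
  ⟨34, 91, 38973542486505611986842319452289138688, 0, 0, []⟩,
  ⟨35, 90, 38262116688135199474263556018414829568, 0, 0, []⟩,
  ⟨36, 89, 36141022856635400952209413833992183808, 0, 0, []⟩,
  ⟨37, 88, 35433552126280790586571264534268612608, 0, 0, []⟩,
  ⟨38, 87, 34020588200105470500317274906321618944, 0, 0, []⟩,
  ⟨39, 86, 30605998911355551307128653521332208640, 0, 0, []⟩,
  ⟨40, 85, 29934892005577491376658881613464338944, 0, 0, []⟩,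
  ⟨41, 84, 28594629108705062198291312876144689408, 0, 0, []⟩,
  ⟨42, 83, 25924489812601909865720913722512113792, 0, 0, []⟩,
  ⟨43, 82, 19938952358154353993179289919581955072, 0, 0, []⟩,
  ⟨44, 81, 19274234411328981986405393849166942720, 0, 0, []⟩,
  ⟨45, 80, 17944832744763077101319103677978429696, 0, 0, []⟩,
  ⟨46, 79, 15286193574887079677789887195194079360, 0, 0, []⟩,
  ⟨47, 78, 9969219475920508800639259512636704640, 0, 0, []⟩,
  ⟨48, 77, 21882935435331809339935433417537617984, 0, 0, []⟩,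
  ⟨49, 76, 21834906529347999506556550663774666784, 0, 0, []⟩,
  ⟨50, 75, 21740796066908964349883413447698415632, 0, 0, []⟩,
  ⟨51, 74, 21562959857095046974458203943069417480, 0, 0, []⟩,
  ⟨52, 73, 21308537290272010803079642635661344772, 0, 0, []⟩,
  ⟨53, 72, 11215888882049174225815217116543033408, 0, 0, []⟩,
  ⟨54, 71, 11174248935126636049847355909513236512, 0, 0, []⟩,
  ⟨55, 70, 11090999703048417053299993897297037328, 0, 0, []⟩,
  ⟨56, 69, 10924663619488800520312062948558256136, 0, 0, []⟩,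
  ⟨57, 68, 5680864936092643332769678853647991872, 0, 0, []⟩,
  ⟨58, 67, 5675588814559047101788251800653087264, 0, 0, []⟩,
  ⟨59, 66, 5665040612189914767833677798476661008, 0, 0, []⟩,
  ⟨60, 65, 2848345303447362948335179799661716544, 0, 0, []⟩,
  ⟨61, 64, 2847024252714933564296040686448611872, 0, 0, []⟩,
  ⟨62, 63, 1425493702456110897406060169676760128, 0, 0, []⟩,
  ⟨63, 62, 712746851228055448703030084838380064, 0, 0, []⟩,
  ⟨64, 61, 1423512126357466771771726801762683152, 0, 0, []⟩,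
  ⟨65, 60, 712086325861840737083794949915429136, 0, 0, []⟩,
  ⟨66, 59, 2828565235293790111402400571454140552, 0, 0, []⟩,
  ⟨67, 58, 1415601311305455768701271901932759176, 0, 0, []⟩,
  ⟨68, 57, 708130581610996837192432388739045512, 0, 0, []⟩,
  ⟨69, 56, 5353266954646361395745751564211455748, 0, 0, []⟩,
  ⟨70, 55, 2683127661309854306545052512307381892, 0, 0, []⟩,
  ⟨71, 54, 1342864767030608839505568742687507844, 0, 0, []⟩,
  ⟨72, 53, 671757862725096279931525096178844548, 0, 0, []⟩,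
  ⟨73, 52, 10634462872094438123220348492381812738, 0, 0, []⟩,
  ⟨74, 51, 5317488774075052879055527964315862786, 0, 0, []⟩,
  ⟨75, 50, 2658849606992883230562543913828169346, 0, 0, []⟩,
  ⟨76, 49, 1329447943074527120294416930457038210, 0, 0, []⟩,
  ⟨77, 48, 664729997830432611474912341127093122, 0, 0, []⟩,
  ⟨78, 47, 623076217235690368832459258242007160, 0, 0, []⟩,
  ⟨79, 46, 368653651360425403879218079192842356, 0, 0, []⟩,
  ⟨80, 45, 190817444341506950375811247803990124, 0, 0, []⟩,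
  ⟨81, 44, 96706984552362862295249848036360284, 0, 0, []⟩,
  ⟨82, 43, 48678080154515114421219905643085884, 0, 0, []⟩,
  ⟨83, 42, 332875470915797909788377562921156722, 0, 0, []⟩,
  ⟨84, 41, 166539390142168252620306869303455850, 0, 0, []⟩,
  ⟨85, 40, 83290160695816232409429925559314522, 0, 0, []⟩,
  ⟨86, 39, 41650215323191957408137078426851386, 0, 0, []⟩,
  ⟨87, 38, 21101816970935633226132769223018086, 0, 0, []⟩,
  ⟨88, 37, 10553617098273904495351727095055702, 0, 0, []⟩,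
  ⟨89, 36, 5277496843798831849789180013986614, 0, 0, []⟩,
  ⟨90, 35, 2642803913468048263405517656302798, 0, 0, []⟩,
  ⟨91, 34, 1321753531705181486527413995442862, 0, 0, []⟩,
  ⟨92, 33, 661228340823739797517914603653534, 0, 0, []⟩, ⟨125, 0, 8589934590, 1, 2, [(0, 1, 1)]⟩]

theorem T2_1 : rws2.all (fun p => Tb.Rw.ok T2 chevE7 p) = true := by decide +kernel

theorem T2_2 : rws2.all (fun p => rws2.all fun q => Tb.pairOk p q) = true := by decide +kernel

theorem T2_3 : Tb.okRest T2 126 rws2 = true := by decide +kernel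

theorem T2_ok : T2.Ok chevE7 :=
  Tb.ok_of T2 chevE7 T2_1 T2_2 T2_3 fun r _ =>
    (Cfsg.Agent.ChevalleyStructure.RootVec.row_pairwise Cfsg.Agent.ChevalleyStructure.RootVecTab.checked_E7 r).imp ne_of_lt

/-! ### more facts -/

theorem c6_1 : (rws6.all fun p => p.A.all fun a => (List.range 7).all fun k =>
    decide (exf ex6 k a.1 = chevE7.cartan k p.r + exf ex6 k a.2.1)) = true := by decide +kernel

theorem c6_2 : ((List.range 7).all fun i => (T6.H i).all fun a => Nat.beq a.1 a.2.1) = true := by decide +kernel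

theorem c6_3 : ((List.range 7).all fun k => (List.range 6).all fun i =>
    decide (exf ex6 k i + exf ex6 k (i + 6) = exf ex6 k 0 + exf ex6 k 6)) = true := by decide +kernel

theorem c6_4 : (rws6.all fun p => zr (skw 6 p.A)) = true := by decide +kernel

theorem c6_5 : ((List.range 7).all fun i => zr (skw 6 (T6.H i))) = true := by decide +kernel

theorem c6_6 : ((List.range 12).all fun i => (List.range 12).all fun j => Nat.beq i j || Nat.beq i (opn 6 j) ||
    rws6.any fun p => p.rm.testBit i && (p.cm.testBit j && isA 6 p.A i j)) = true := by decide +kernel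

theorem spec_rws (T : Tb) (rws : List Tb.Rw) (h1 : rws.all (fun p => Tb.Rw.ok T chevE7 p) = true)
    (h3 : Tb.okRest T 126 rws = true) (hlt : ∀ r, T.In r = true → r < 126) {r : ℕ} (hr : T.In r = true) :
    ∃ p ∈ rws, p.r = r ∧ T.E r = p.A := by
  unfold Tb.okRest at h3
  simp only [Bool.and_eq_true, List.all_eq_true, List.mem_range, Bool.or_eq_true, Bool.not_eq_true', List.any_eq_true,
    Nat.blt_eq] at h3
  obtain ⟨⟨⟨⟨ha, hb⟩, -⟩, -⟩, -⟩ := h3
  rcases ha r (hlt r hr) with h | ⟨p, hp, h⟩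
  · rw [h] at hr; exact absurd hr Bool.false_ne_true
  · have h1 := List.all_eq_true.1 h1 p hp
    unfold Tb.Rw.ok at h1
    simp only [Bool.and_eq_true, decide_eq_true_eq] at h1
    obtain ⟨⟨⟨⟨⟨⟨⟨⟨⟨⟨-, -⟩, -⟩, -⟩, q1⟩, -⟩, -⟩, -⟩, -⟩, -⟩, -⟩ := h1
    have h2 := Nat.eq_of_beq_eq_true h
    exact ⟨p, hp, h2.symm, by rw [h2, q1]⟩

theorem spec_rws' (T : Tb) (rws : List Tb.Rw) (h1 : rws.all (fun p => Tb.Rw.ok T chevE7 p) = true) {p : Tb.Rw} (hp : p ∈ rws) :
    T.In p.r = true ∧ T.E p.r = p.A := by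
  have h1 := List.all_eq_true.1 h1 p hp
  unfold Tb.Rw.ok at h1
  simp only [Bool.and_eq_true, decide_eq_true_eq] at h1
  obtain ⟨⟨⟨⟨⟨⟨⟨⟨⟨⟨q0, -⟩, -⟩, -⟩, q1⟩, -⟩, -⟩, -⟩, -⟩, -⟩, -⟩ := h1
  exact ⟨q0, q1⟩

theorem spec6 {r : ℕ} (hr : T6.In r = true) : ∃ p ∈ rws6, p.r = r ∧ T6.E r = p.A :=
  spec_rws T6 rws6 T6_1 T6_3 (fun r h => T6_ok.lt r h) hr

theorem spec2 {r : ℕ} (hr : T2.In r = true) : ∃ p ∈ rws2, p.r = r ∧ T2.E r = p.A :=
  spec_rws T2 rws2 T2_1 T2_3 (fun r h => T2_ok.lt r h) hr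

theorem T6_ok2 : T6.Ok2 chevE7 ex6 where
  dE := by
    intro r hr a ha k hk
    obtain ⟨p, hp, rfl, e⟩ := spec6 hr
    rw [e] at ha
    exact of_decide_eq_true (List.all_eq_true.1 (List.all_eq_true.1 (List.all_eq_true.1 c6_1 p hp) a ha) k (List.mem_range.2 hk))
  dH := by
    intro i hi a ha
    exact Nat.eq_of_beq_eq_true (List.all_eq_true.1 (List.all_eq_true.1 c6_2 i (List.mem_range.2 hi)) a ha)
  mu := by
    intro k hk i hi
    exact of_decide_eq_true (List.all_eq_true.1 (List.all_eq_true.1 c6_3 k (List.mem_range.2 hk)) i (List.mem_range.2 hi))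
  skE := by
    intro r hr
    obtain ⟨p, hp, rfl, e⟩ := spec6 hr
    rw [e]
    exact List.all_eq_true.1 c6_4 p hp
  skH := fun i hi => List.all_eq_true.1 c6_5 i (List.mem_range.2 hi)
  hit := by
    intro i hi j hj h1 h2
    have h3 := List.all_eq_true.1 (List.all_eq_true.1 c6_6 i (List.mem_range.2 hi)) j (List.mem_range.2 hj)
    rw [Bool.or_eq_true, Bool.or_eq_true, List.any_eq_true] at h3
    rcases h3 with (h3 | h3) | ⟨p, hp, h3⟩
    · exact absurd (Nat.eq_of_beq_eq_true h3) h1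
    · exact absurd (Nat.eq_of_beq_eq_true h3) h2
    · rw [Bool.and_eq_true, Bool.and_eq_true] at h3
      obtain ⟨h4, h5⟩ := spec_rws' T6 rws6 T6_1 hp
      exact ⟨p.r, h4, by rw [h5]; exact h3.2.2⟩

/-- the mask is the set of the roots with even first coefficient -/
theorem In_iff6 : ((List.range 126).all fun r => decide (T6.In r = decide (Cfsg.Agent.ChevalleyStructure.Columns.cor chevE7 r 0 % 2 = 0))) = true := by
  decide +kernel

theorem In_eq (r : ℕ) : T2.In r = T6.In r := rfl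

/-- joint injectivity on the root vectors -/
theorem cj_1 : (rws6.all fun p => Nat.beq p.r 125 || (Nat.beq p.r 0 || p.A.any fun a => (decide (ent p.A a.1 a.2.1 = 1) ||
    decide (ent p.A a.1 a.2.1 = -1)) && (rws6.all fun q => Nat.beq q.r p.r || decide (ent q.A a.1 a.2.1 = 0)) &&
    (List.range 7).all fun k => decide (ent (T6.H k) a.1 a.2.1 = 0))) = true := by decide +kernel

theorem cj_2 : (rws2.all fun p => !(Nat.beq p.r 125 || Nat.beq p.r 0) || p.A.any fun a => (decide (ent p.A a.1 a.2.1 = 1) ||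
    decide (ent p.A a.1 a.2.1 = -1)) && (rws2.all fun q => Nat.beq q.r p.r || decide (ent q.A a.1 a.2.1 = 0)) &&
    (List.range 7).all fun k => decide (ent (T2.H k) a.1 a.2.1 = 0)) = true := by decide +kernel

def mm7 : List (List ℤ) := [[0, 0, 0, 0, 0, 0, 4], [1, 1, 1, 1, 1, 1, 4], [1, 1, 1, 1, 1, -1, 6], [2, 2, 2, 2, 0, 0, 8],
  [2, 2, 2, 0, 0, 0, 6], [2, 2, 0, 0, 0, 0, 4], [2, 0, 0, 0, 0, 0, 2]]

theorem cj_3 : ((List.range 7).all fun l => (List.range 7).all fun k =>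
    decide (((List.range 6).map fun i => exf mm7 l i * ent (T6.H k) i i).sum + exf mm7 l 6 * ent (T2.H k) 0 0 =
      if l = k then 4 else 0)) = true := by
  decide +kernel

end Cfsg.Agent.H249.Co3
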